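import Groth.Agent.Ega2.H18.PnExist
import Groth.Agent.Ega2.H295.PnExt
import Groth.Agent.Dix.ProjProper
import Groth.Prelude.Def_LCI2
import Mathlib.AlgebraicGeometry.Morphisms.Immersion

/-!
# Morphisms to projective space given by sections of an invertible module

* `GivenBy r M s`: `r : X ⟶ P^n_R` pulls `O(1)` back to `M` and the coordinates to `s`.
* existence, uniqueness, pullback.
* `isRelVeryAmplePn_iff`: relative very ampleness in terms of sections.
* `isImmersion_lift_of_span`: if the sections `s` are linear combinations of the sections `t` and the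
  morphism given by `s` is an immersion, then so is the one given by `t`.
-/

set_option autoImplicit false
universe u
open CategoryTheory CategoryTheory.Limits AlgebraicGeometry TopologicalSpace Opposite

namespace K390.PnSec

open Groth.Agent.Fdesc.LocGen Groth.Agent.Dix.ProjProper
open Groth.Agent.Ega2.H295.PnUniq Groth.Agent.Ega2.H295.PnCoord

attribute [local instance] MvPolynomial.gradedAlgebra

variable {X Y : Scheme.{u}} {n : ℕ} {R : Type u} [CommRing R]

/-- The twisting sheaf `O(1)`. -/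
noncomputable abbrev O1 (n : ℕ) (R : Type u) [CommRing R] : (CohB1.ProjSpace n R).Modules :=
  Twist.twistProjSpace n R 1

/-- The morphism `r` to projective space is given by the sections `s` of `M`. -/
def GivenBy (r : X ⟶ CohB1.ProjSpace n R) (M : X.Modules) (s : Fin (n + 1) → Γ(M, ⊤)) : Prop :=
  ∃ τ : (Scheme.Modules.pullback r).obj (O1 n R) ≅ M, ∀ i, τ.hom.app ⊤ (tsec r i) = s i

theorem GivenBy.refl (r : X ⟶ CohB1.ProjSpace n R) :
    GivenBy r ((Scheme.Modules.pullback r).obj (O1 n R)) (fun i => tsec r i) :=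
  ⟨Iso.refl _, fun _ => rfl⟩

theorem GivenBy.of_iso {r : X ⟶ CohB1.ProjSpace n R} {M M' : X.Modules}
    {s : Fin (n + 1) → Γ(M, ⊤)} (h : GivenBy r M s) (e : M ≅ M') :
    GivenBy r M' (fun i => e.hom.app ⊤ (s i)) := by
  obtain ⟨τ, hτ⟩ := h
  exact ⟨τ ≪≫ e, fun i => congrArg (e.hom.app ⊤) (hτ i)⟩

theorem GivenBy.unique {r r' : X ⟶ CohB1.ProjSpace n R} {M : X.Modules}
    {s : Fin (n + 1) → Γ(M, ⊤)} (h : GivenBy r M s) (h' : GivenBy r' M s)
    (hr : r ≫ CohB1.ProjSpace.toSpec n R = r' ≫ CohB1.ProjSpace.toSpec n R) : r = r' := by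
  obtain ⟨τ, hτ⟩ := h
  obtain ⟨τ', hτ'⟩ := h'
  refine Groth.Agent.Ega2.H295.PnExt.ext_of_hom r r' hr (τ.hom ≫ τ'.inv) fun i => ?_
  have h0 := τ'.hom_inv_id
  have h1 : τ'.inv.app ⊤ (τ'.hom.app ⊤ (tsec r' i)) = tsec r' i :=
    congr(($(h0).app ⊤) (tsec r' i))
  refine Eq.trans ?_ h1
  exact congrArg (τ'.inv.app ⊤) ((hτ i).trans (hτ' i).symm)

theorem GivenBy.comp {r : X ⟶ CohB1.ProjSpace n R} {M : X.Modules}
    {s : Fin (n + 1) → Γ(M, ⊤)} (h : GivenBy r M s) (g : Y ⟶ X) :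
    GivenBy (g ≫ r) ((Scheme.Modules.pullback g).obj M) (fun i => pullTop g (s i)) := by
  obtain ⟨τ, hτ⟩ := h
  refine ⟨((Scheme.Modules.pullbackComp g r).symm.app (O1 n R)) ≪≫
    (Scheme.Modules.pullback g).mapIso τ, fun i => ?_⟩
  have h1 : ((Scheme.Modules.pullbackComp g r).inv.app (O1 n R)).app ⊤ (tsec (g ≫ r) i) =
      pullTop g (tsec r i) := pullSec_comp g r (cd n R i)
  have h2 : ((Scheme.Modules.pullback g).map τ.hom).app ⊤ (pullTop g (tsec r i)) =
      pullTop g (τ.hom.app ⊤ (tsec r i)) := pullback_map_pullSec g τ.hom (U := ⊤) (tsec r i)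
  rw [hτ] at h2
  refine Eq.trans ?_ h2
  exact congrArg (((Scheme.Modules.pullback g).map τ.hom).app ⊤) h1

/-- existence, over a base ring -/
theorem exists_givenBy (q : X ⟶ Spec (CommRingCat.of R)) {M : X.Modules}
    (s : Fin (n + 1) → Γ(M, ⊤)) (hcov : ⨆ i, CohB1.genLocus M (homOf (s i)) = ⊤) :
    ∃ r : X ⟶ CohB1.ProjSpace n R, r ≫ CohB1.ProjSpace.toSpec n R = q ∧ GivenBy r M s := by
  obtain ⟨r, hr, τ, hτ⟩ := Groth.Agent.Ega2.H18.PnExist.exists_map n q M s hcov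
  exact ⟨r, hr, τ, hτ⟩


/-- The integers, in the universe `u`. -/
abbrev Z : Type u := ULift.{u} ℤ

theorem GivenBy.unique' {r r' : X ⟶ CohB1.ProjSpace n Z.{u}} {M : X.Modules}
    {s : Fin (n + 1) → Γ(M, ⊤)} (h : GivenBy r M s) (h' : GivenBy r' M s) : r = r' :=
  h.unique h' (specULiftZIsTerminal.hom_ext _ _)

/-- existence, over the integers -/
theorem exists_givenBy' {M : X.Modules}
    (s : Fin (n + 1) → Γ(M, ⊤)) (hcov : ⨆ i, CohB1.genLocus M (homOf (s i)) = ⊤) :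
    ∃ r : X ⟶ CohB1.ProjSpace n Z.{u}, GivenBy r M s := by
  obtain ⟨r, -, hr⟩ := exists_givenBy (R := Z.{u}) (specULiftZIsTerminal.from X) s hcov
  exact ⟨r, hr⟩

/-- The generating loci of the sections defining a morphism to projective space cover. -/
theorem GivenBy.iSup_genLocus {r : X ⟶ CohB1.ProjSpace n R} {M : X.Modules}
    {s : Fin (n + 1) → Γ(M, ⊤)} (h : GivenBy r M s) :
    ⨆ i, CohB1.genLocus M (homOf (s i)) = ⊤ := by
  obtain ⟨τ, hτ⟩ := h
  rw [eq_top_iff, ← iSup_preimage r]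
  refine iSup_mono fun i => ?_
  rw [le_genLocus_iff, sec_homOf, ← hτ i]
  have h1 := (isGen_res_tsec r i le_rfl).app τ.hom
  have h2 := app_res τ.hom (le_top : r ⁻¹ᵁ Dp (Fin (n + 1)) R i ≤ ⊤) (tsec r i)
  exact h2 ▸ h1

/-- The morphism to `P^n_T` with components `r` and `q`. -/
noncomputable def liftP {T : Scheme.{u}} (r : X ⟶ CohB1.ProjSpace n Z.{u}) (q : X ⟶ T) :
    X ⟶ CohB1.ProjSpaceOver n T :=
  (isPullback_toZ n T).lift r q (specULiftZIsTerminal.hom_ext _ _)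

theorem liftP_toZ {T : Scheme.{u}} (r : X ⟶ CohB1.ProjSpace n Z.{u}) (q : X ⟶ T) :
    liftP r q ≫ toZ n T = r := (isPullback_toZ n T).lift_fst _ _ _

theorem liftP_toBase {T : Scheme.{u}} (r : X ⟶ CohB1.ProjSpace n Z.{u}) (q : X ⟶ T) :
    liftP r q ≫ CohB1.ProjSpaceOver.toBase n T = q := (isPullback_toZ n T).lift_snd _ _ _

theorem hom_ext_over {T : Scheme.{u}} {a b : X ⟶ CohB1.ProjSpaceOver n T}
    (h1 : a ≫ toZ n T = b ≫ toZ n T)
    (h2 : a ≫ CohB1.ProjSpaceOver.toBase n T = b ≫ CohB1.ProjSpaceOver.toBase n T) : a = b :=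
  (isPullback_toZ n T).hom_ext h1 h2

/-- Relative very ampleness in terms of sections. -/
theorem isRelVeryAmplePn_iff {T : Scheme.{u}} (q : X ⟶ T) (L : X.Modules) :
    RelAmple.IsRelVeryAmplePn q L ↔ ∃ (n : ℕ) (r : X ⟶ CohB1.ProjSpace n Z.{u})
      (s : Fin (n + 1) → Γ(L, ⊤)), GivenBy r L s ∧ IsImmersion (liftP r q) := by
  constructor
  · rintro ⟨n, i, hi, hq, ⟨e⟩⟩
    change i ≫ CohB1.ProjSpaceOver.toBase n T = q at hq
    have hr : liftP (i ≫ toZ n T) q = i := by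
      refine hom_ext_over ?_ ?_
      · rw [liftP_toZ]
      · rw [liftP_toBase, hq]
    have h1 := (GivenBy.refl (i ≫ toZ n T)).of_iso
      ((Scheme.Modules.pullbackComp i (toZ n T)).symm.app (O1 n Z.{u}) ≪≫ e.symm)
    exact ⟨n, i ≫ toZ n T, _, h1, by rw [hr]; exact hi⟩
  · rintro ⟨n, r, s, ⟨τ, -⟩, h⟩
    refine ⟨n, liftP r q, h, liftP_toBase r q, ⟨?_⟩⟩
    exact τ.symm ≪≫ (Scheme.Modules.pullbackCongr (liftP_toZ r q).symm).app (O1 n Z.{u}) ≪≫
      (Scheme.Modules.pullbackComp (liftP r q) (toZ n T)).symm.app (O1 n Z.{u})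

/-- The coordinates on `P^n_T`. -/
noncomputable def crd (n : ℕ) (T : Scheme.{u}) (k : Fin (n + 1)) :
    Γ((Scheme.Modules.pullback (toZ n T)).obj (O1 n Z.{u}), ⊤) := tsec (toZ n T) k

theorem GivenBy.exists_iso {r : X ⟶ CohB1.ProjSpace n R} {M M' : X.Modules}
    {s : Fin (n + 1) → Γ(M, ⊤)} {s' : Fin (n + 1) → Γ(M', ⊤)} (h : GivenBy r M s)
    (h' : GivenBy r M' s') : ∃ e : M ≅ M', ∀ i, e.hom.app ⊤ (s i) = s' i := by
  obtain ⟨τ, hτ⟩ := h
  obtain ⟨τ', hτ'⟩ := h'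
  refine ⟨τ.symm ≪≫ τ', fun i => ?_⟩
  have h0 := τ.hom_inv_id
  have h1 : τ.inv.app ⊤ (τ.hom.app ⊤ (tsec r i)) = tsec r i :=
    congr(($(h0).app ⊤) (tsec r i))
  rw [hτ] at h1
  refine Eq.trans ?_ (hτ' i)
  exact congrArg (τ'.hom.app ⊤) h1

theorem genLocus_pullTop (f : Y ⟶ X) {M : X.Modules} (hM : PicF.IsInvertible M) (s : Γ(M, ⊤)) :
    CohB1.genLocus _ (homOf (pullTop f s)) = f ⁻¹ᵁ (CohB1.genLocus M (homOf s)) := by
  apply le_antisymm
  · intro y hy
    obtain ⟨U, e, hx, he⟩ := (isInvertible_iff M).mp hM (f y)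
    obtain ⟨c, hc⟩ := he.exists_eq (res M le_top s)
    have h1 := genLocus_inf_eq (homOf s) he ((sec_homOf _ _).trans hc)
    have hc' : sec (homOf (pullTop f s)) (f ⁻¹ᵁ U) =
        (f.app U c : Γ(Y, f ⁻¹ᵁ U)) • pullSec f e := by
      rw [sec_homOf]
      exact (res_pullSec f (le_top : U ≤ ⊤) s).trans (by rw [hc, pullSec_smul])
    have h2 := genLocus_inf_eq (homOf (pullTop f s)) (he.pullSec f) hc'
    have h3 : y ∈ Y.basicOpen (f.app U c) := by
      rw [← h2]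
      exact ⟨hy, hx⟩
    rw [← Scheme.preimage_basicOpen, ← h1] at h3
    exact h3.1
  · rw [le_genLocus_iff, sec_homOf]
    have h := (isGen_sec_genLocus (homOf s)).pullSec f
    rw [sec_homOf] at h
    have h2 : res ((Scheme.Modules.pullback f).obj M) le_top (pullTop f s) =
      pullSec f (res M le_top s) := (res_pullSec f (le_top : CohB1.genLocus M (homOf s) ≤ ⊤) s)
    rw [h2]
    exact h

theorem genLocus_app {M M' : X.Modules} (e : M ≅ M') (s : Γ(M, ⊤)) :
    CohB1.genLocus M' (homOf (e.hom.app ⊤ s)) = CohB1.genLocus M (homOf s) := by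
  have key : ∀ U : X.Opens, U ≤ CohB1.genLocus M' (homOf (e.hom.app ⊤ s)) ↔
      U ≤ CohB1.genLocus M (homOf s) := by
    intro U
    rw [le_genLocus_iff, le_genLocus_iff, sec_homOf, sec_homOf, ← app_res]
    exact isGen_app_iff e.hom _
  exact le_antisymm ((key _).1 le_rfl) ((key _).2 le_rfl)

theorem isInvertible_O1 (n : ℕ) (R : Type u) [CommRing R] : PicF.IsInvertible (O1 n R) := by
  rw [isInvertible_iff]
  intro x
  obtain ⟨i, hi⟩ := exists_mem (𝟙 (CohB1.ProjSpace n R)) x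
  refine ⟨Dp (Fin (n + 1)) R i, _, hi, isGen_res_cd (R := R) i⟩

/-- `pullTop` as a homomorphism. -/
noncomputable def pullTopHom (f : Y ⟶ X) (M : X.Modules) :
    Γ(M, ⊤) →+ Γ((Scheme.Modules.pullback f).obj M, ⊤) where
  toFun := pullTop f
  map_zero' := map_zero (((Scheme.Modules.pullbackPushforwardAdjunction f).unit.app M).app ⊤).hom
  map_add' := pullSec_add f

theorem pullTop_sum_smul (f : Y ⟶ X) {M : X.Modules} {κ : Type*} [Fintype κ] (a : κ → Γ(X, ⊤))
    (t : κ → Γ(M, ⊤)) : pullTop f (∑ k, a k • t k) = ∑ k, (f.appTop (a k)) • pullTop f (t k) := by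
  refine (map_sum (pullTopHom f M) _ _).trans ?_
  exact Finset.sum_congr rfl fun k _ => pullSec_smul f (a k) (t k)

theorem app_sum_smul {M M' : X.Modules} (e : M ⟶ M') {κ : Type*} [Fintype κ] (a : κ → Γ(X, ⊤))
    (t : κ → Γ(M, ⊤)) : e.app ⊤ (∑ k, a k • t k) = ∑ k, a k • e.app ⊤ (t k) := by
  refine (map_sum (e.app ⊤).hom _ _).trans ?_
  exact Finset.sum_congr rfl fun k _ => Scheme.Modules.Hom.app_smul e (a k) (t k)

theorem exists_lift_of_preimage_eq_top (f : Y ⟶ X) (V : X.Opens) (h : f ⁻¹ᵁ V = ⊤) :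
    ∃ ψ : Y ⟶ V, ψ ≫ V.ι = f := by
  refine ⟨IsOpenImmersion.lift V.ι f ?_, IsOpenImmersion.lift_fac _ _ _⟩
  rintro _ ⟨y, rfl⟩
  rw [Scheme.Opens.range_ι]
  have : y ∈ f ⁻¹ᵁ V := by rw [h]; trivial
  exact this

/-- **Linear projection.** If the sections `s j` are linear combinations of the sections `t k`, with
coefficients functions on `T`, and the morphism to `P^n_T` given by `s` is an immersion, then so is
the one to `P^m_T` given by `t`. -/
theorem isImmersion_liftP_of_span {T : Scheme.{u}} (q : X ⟶ T) {M : X.Modules} {m n : ℕ}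
    {r : X ⟶ CohB1.ProjSpace m Z.{u}} {t : Fin (m + 1) → Γ(M, ⊤)} (hr : GivenBy r M t)
    {r₀ : X ⟶ CohB1.ProjSpace n Z.{u}} {s : Fin (n + 1) → Γ(M, ⊤)} (hr₀ : GivenBy r₀ M s)
    (b : Fin (n + 1) → Fin (m + 1) → Γ(T, ⊤))
    (hs : ∀ j, s j = ∑ k, (q.appTop (b j k)) • t k)
    (him : IsImmersion (liftP r₀ q)) : IsImmersion (liftP r q) := by
  let P := CohB1.ProjSpaceOver m T
  let N : P.Modules := (Scheme.Modules.pullback (toZ m T)).obj (O1 m Z.{u})
  have hNi : PicF.IsInvertible N := isInvertible_pullback _ (isInvertible_O1 m Z.{u})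
  have hN : GivenBy (toZ m T) N (crd m T) := GivenBy.refl _
  let l : Fin (n + 1) → Γ(N, ⊤) := fun j =>
    ∑ k, ((CohB1.ProjSpaceOver.toBase m T).appTop (b j k)) • crd m T k
  let V : P.Opens := ⨆ j, CohB1.genLocus N (homOf (l j))
  -- the pullback of `l j` along any morphism compatible with `liftP r q`
  have key : ∀ φ : X ⟶ P, φ = liftP r q → ∃ e : (Scheme.Modules.pullback φ).obj N ≅ M,
      ∀ j, e.hom.app ⊤ (pullTop φ (l j)) = s j := by
    intro φ hφ
    have h1 : GivenBy r ((Scheme.Modules.pullback φ).obj N) (fun i => pullTop φ (crd m T i)) := by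
      have := hN.comp φ
      rw [hφ, liftP_toZ] at this
      rw [hφ]
      exact this
    obtain ⟨e, he⟩ := h1.exists_iso hr
    refine ⟨e, fun j => ?_⟩
    have h2 : pullTop φ (l j) = ∑ k, (φ.appTop ((CohB1.ProjSpaceOver.toBase m T).appTop (b j k))) •
      pullTop φ (crd m T k) := pullTop_sum_smul φ _ _
    rw [h2, hs j]
    refine (app_sum_smul e.hom _ _).trans ?_
    refine Finset.sum_congr rfl fun k _ => ?_
    have h3 : φ.appTop ((CohB1.ProjSpaceOver.toBase m T).appTop (b j k)) = q.appTop (b j k) := by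
      have h4 : φ ≫ CohB1.ProjSpaceOver.toBase m T = q := by rw [hφ, liftP_toBase]
      rw [← h4, Scheme.Hom.comp_appTop]
      rfl
    rw [h3, he k]
  have hV : (liftP r q) ⁻¹ᵁ V = ⊤ := by
    obtain ⟨e, he⟩ := key _ rfl
    rw [Scheme.Hom.preimage_iSup, ← hr₀.iSup_genLocus]
    refine iSup_congr fun j => ?_
    rw [← genLocus_pullTop _ hNi, ← he j, genLocus_app]
  obtain ⟨ψ, hψ⟩ := exists_lift_of_preimage_eq_top _ V hV
  obtain ⟨π₀, hπ₀⟩ := exists_givenBy' (M := (Scheme.Modules.pullback V.ι).obj N)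
    (fun j => pullTop V.ι (l j)) (by
      have h1 : ∀ j, CohB1.genLocus _ (homOf (pullTop V.ι (l j))) =
        V.ι ⁻¹ᵁ (CohB1.genLocus N (homOf (l j))) := fun j => genLocus_pullTop V.ι hNi (l j)
      rw [iSup_congr h1, ← Scheme.Hom.preimage_iSup]
      exact V.ι_preimage_self)
  have h1 : ψ ≫ π₀ = r₀ := by
    obtain ⟨e, he⟩ := key (ψ ≫ V.ι) hψ
    have h2 := (hπ₀.comp ψ).of_iso ((Scheme.Modules.pullbackComp ψ V.ι).app N ≪≫ e)
    have h3 : (fun i => ((Scheme.Modules.pullbackComp ψ V.ι).app N ≪≫ e).hom.app ⊤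
        (pullTop ψ (pullTop V.ι (l i)))) = s := by
      funext i
      rw [← he i]
      exact congrArg (e.hom.app ⊤) (pullSec_comp' ψ V.ι (U := ⊤) (l i))
    rw [h3] at h2
    exact h2.unique' hr₀
  have h2 : liftP r₀ q = ψ ≫ liftP π₀ (V.ι ≫ CohB1.ProjSpaceOver.toBase m T) := by
    refine hom_ext_over ?_ ?_
    · rw [liftP_toZ, Category.assoc, liftP_toZ, h1]
    · rw [liftP_toBase, Category.assoc, liftP_toBase, ← Category.assoc, hψ, liftP_toBase]
  rw [h2] at him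
  have h3 : IsImmersion ψ := IsImmersion.of_comp ψ (liftP π₀ (V.ι ≫ CohB1.ProjSpaceOver.toBase m T))
  rw [← hψ]
  infer_instance

end K390.PnSec
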