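import Groth.Agent.Desc.K390.PnSec
import Groth.Agent.Desc.AmpleDesc
import Groth.Agent.Desc.ImmersionDescent
import Groth.Agent.Mor.K385.VeryAmpleBC

/-!
# Descent of relative very ampleness

* `exists_finset`: flat base change of sections of an invertible module.
* `isRelVeryAmplePn_of_finite_flat_family`: descent of very ampleness along finite flat families.
-/

set_option autoImplicit false
universe u
open CategoryTheory CategoryTheory.Limits AlgebraicGeometry TopologicalSpace Opposite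

namespace K390.PnDesc

open Groth.Agent.Fdesc.LocGen Groth.Agent.Dix.ProjProper Groth.Agent.Flat2H.FamExt
  Groth.Agent.Flat2H.FamDict
open K390.PnSec

variable {X Y : Scheme.{u}}

section span

variable {X' V : Scheme.{u}} (a : X' ⟶ X) (b : X' ⟶ V) (L : X.Modules)

/-- `s'` is a linear combination, with coefficients in `Γ(V, ⊤)`, of the pullbacks of the sections in
the finite set `T`. -/
def HasSpan (T : Finset Γ(L, ⊤)) (s' : Γ((Scheme.Modules.pullback a).obj L, ⊤)) : Prop :=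
  ∃ β : Γ(L, ⊤) → Γ(V, ⊤), s' = ∑ t ∈ T, (b.appTop (β t)) • pullTop a t

variable {a b L}

theorem HasSpan.mono {T T' : Finset Γ(L, ⊤)} (h : T ⊆ T')
    {s' : Γ((Scheme.Modules.pullback a).obj L, ⊤)} (hs : HasSpan a b L T s') :
    HasSpan a b L T' s' := by
  classical
  obtain ⟨β, rfl⟩ := hs
  refine ⟨fun t => if t ∈ T then β t else 0, ?_⟩
  refine Finset.sum_subset_zero_on_sdiff h ?_ ?_
  · intro t ht
    rw [Finset.mem_sdiff] at ht
    dsimp only
    rw [if_neg ht.2, map_zero, zero_smul]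
  · intro t ht
    dsimp only
    rw [if_pos ht]

theorem HasSpan.add {T : Finset Γ(L, ⊤)}
    {s' s'' : Γ((Scheme.Modules.pullback a).obj L, ⊤)} (hs : HasSpan a b L T s')
    (hs' : HasSpan a b L T s'') : HasSpan a b L T (s' + s'') := by
  obtain ⟨β, rfl⟩ := hs
  obtain ⟨β', rfl⟩ := hs'
  refine ⟨fun t => β t + β' t, ?_⟩
  rw [← Finset.sum_add_distrib]
  exact Finset.sum_congr rfl fun t _ => by rw [map_add, add_smul]

theorem HasSpan.smul {T : Finset Γ(L, ⊤)} (c : Γ(V, ⊤))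
    {s' : Γ((Scheme.Modules.pullback a).obj L, ⊤)} (hs : HasSpan a b L T s') :
    HasSpan a b L T (b.appTop c • s') := by
  obtain ⟨β, rfl⟩ := hs
  refine ⟨fun t => c * β t, ?_⟩
  rw [Finset.smul_sum]
  exact Finset.sum_congr rfl fun t _ => by rw [map_mul, mul_smul]

end span

/-- **Flat base change of sections of an invertible module.** -/
theorem exists_finset {X' V : Scheme.{u}} [IsAffine Y] [IsAffine V] [CompactSpace X]
    [QuasiSeparatedSpace X] {f : X ⟶ Y} {p : V ⟶ Y} {a : X' ⟶ X} {b : X' ⟶ V}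
    (H : IsPullback a b f p) [Flat p] {L : X.Modules} (hL : PicF.IsInvertible L)
    (s' : Γ((Scheme.Modules.pullback a).obj L, ⊤)) : ∃ T : Finset Γ(L, ⊤), HasSpan a b L T s' := by
  classical
  obtain ⟨r, W, g, hW, hT⟩ := exists_trivs hL IsAffineOpen (fun U x hx ↦ by
    obtain ⟨V, hV, hxV, hVU⟩ := exists_affine_nhds hx
    exact ⟨V, hxV, hVU, hV⟩)
  have hcomp : ∀ i j, IsCompact ((W i ⊓ W j : X.Opens) : Set X) := fun i j =>
    QuasiSeparatedSpace.inter_isCompact _ _ (W i).isOpen (hW i).isCompact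
      (W j).isOpen (hW j).isCompact
  have htop := hT.iSup_eq
  have htop' : ⨆ i, a ⁻¹ᵁ W i = ⊤ := by
    rw [← Scheme.Hom.preimage_iSup, htop]
    rfl
  obtain ⟨h0, e, he, hg⟩ := hT
  let M := (Scheme.Modules.pullback a).obj L
  choose c hc using fun j ↦ ((he j).pullSec a).exists_eq (res M le_top s')
  have hfam : IsFam (fun j ↦ a ⁻¹ᵁ W j) (fun i j ↦ a.app (W i ⊓ W j) (g i j)) c := by
    intro i j
    have h1 : res M inf_le_left (res M (le_top : a ⁻¹ᵁ W i ≤ ⊤) s') =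
        res M (inf_le_right : a ⁻¹ᵁ W i ⊓ a ⁻¹ᵁ W j ≤ a ⁻¹ᵁ W j) (res M le_top s') := by
      rw [res_res, res_res]
    have h2 := congrArg (pullSec a) (hg i j)
    rw [pullSec_smul, ← res_pullSec, ← res_pullSec] at h2
    rw [hc i, hc j, res_smul, res_smul] at h1
    let g' : Γ(X', a ⁻¹ᵁ W i ⊓ a ⁻¹ᵁ W j) := a.app (W i ⊓ W j) (g i j)
    have h3 : res M (inf_le_left : a ⁻¹ᵁ W i ⊓ a ⁻¹ᵁ W j ≤ a ⁻¹ᵁ W i) (pullSec a (e i)) =
      g' • res M (inf_le_right : a ⁻¹ᵁ W i ⊓ a ⁻¹ᵁ W j ≤ a ⁻¹ᵁ W j) (pullSec a (e j)) := h2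
    rw [h3, smul_smul] at h1
    exact (((he j).pullSec a).res inf_le_right).ext h1
  have key := Groth.Agent.Desc.AmpleDesc.fam_induction H W (fun j => (hW j).isCompact)
    (fun j => (hW j).isQuasiSeparated) hcomp g
    (fun c => ∃ (s : Γ(M, ⊤)) (T : Finset Γ(L, ⊤)), HasSpan a b L T s ∧
      ∀ j, res M (le_top : a ⁻¹ᵁ W j ≤ ⊤) s = c j • pullSec a (e j)) ?_ ?_ ?_ ?_ c hfam
  · obtain ⟨s, T, hs, hsc⟩ := key
    refine ⟨T, ?_⟩
    have : s' = s := res_ext M (fun i => a ⁻¹ᵁ W i) (fun _ => le_top) htop'.ge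
      fun i => (hc i).trans (hsc i).symm
    rw [this]
    exact hs
  · refine ⟨0, ∅, ⟨0, by simp⟩, fun j => ?_⟩
    rw [map_zero, Pi.zero_apply, zero_smul]
  · rintro c d ⟨s, T, hs, hsc⟩ ⟨s₂, T₂, hs₂, hsc₂⟩
    refine ⟨s + s₂, T ∪ T₂, (hs.mono Finset.subset_union_left).add
      (hs₂.mono Finset.subset_union_right), fun j => ?_⟩
    rw [map_add, hsc, hsc₂, Pi.add_apply, add_smul]
  · rintro β c ⟨s, T, hs, hsc⟩
    refine ⟨b.appTop β • s, T, hs.smul β, fun j => ?_⟩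
    rw [res_smul, hsc, smul_smul]
    rfl
  · intro m hm
    obtain ⟨t, ht⟩ := res_glue L W (V := ⊤) (fun _ ↦ le_top) htop.ge (fun j ↦ m j • e j) (by
      intro i j
      rw [res_smul, res_smul, hg i j, smul_smul, hm i j])
    refine ⟨pullTop a t, {t}, ⟨fun _ => 1, by simp⟩, fun j => ?_⟩
    refine (res_pullSec a (le_top : W j ≤ ⊤) t).trans ?_
    rw [ht j, pullSec_smul]

set_option backward.isDefEq.respectTransparency.types false in
theorem flat_sigmaDesc {ι : Type u} {Q : ι → Scheme.{u}} {P : Scheme.{u}}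
    (h : ∀ k, Q k ⟶ P) [∀ k, Flat (h k)] : Flat (Sigma.desc h) :=
  IsZariskiLocalAtSource.sigmaDesc (P := @Flat) (fun _ => inferInstance)

theorem surjective_sigmaDesc {ι : Type u} {Q : ι → Scheme.{u}} {P : Scheme.{u}}
    (h : ∀ k, Q k ⟶ P) (hs : ∀ x : P, ∃ i, x ∈ Set.range (h i)) : Surjective (Sigma.desc h) := by
  refine ⟨fun x => ?_⟩
  obtain ⟨k, y, rfl⟩ := hs x
  refine ⟨Sigma.ι Q k y, ?_⟩
  rw [← Scheme.Hom.comp_apply, Sigma.ι_desc]

/-- Quasi-compact immersions descend along finite flat families. -/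
theorem isImmersion_of_finite_flat_family {ι : Type u} [Finite ι] {X P : Scheme.{u}} (φ : X ⟶ P)
    [QuasiCompact φ] [QuasiSeparatedSpace P] (Q : ι → Scheme.{u}) [∀ i, CompactSpace (Q i)]
    (h : ∀ i, Q i ⟶ P) [∀ i, Flat (h i)] (hs : ∀ x : P, ∃ i, x ∈ Set.range (h i))
    {X' : ι → Scheme.{u}} {a : ∀ i, X' i ⟶ X} {φ' : ∀ i, X' i ⟶ Q i}
    (H : ∀ i, IsPullback (a i) (φ' i) φ (h i)) (him : ∀ i, IsImmersion (φ' i)) :
    IsImmersion φ := by
  have h1 : Flat (Sigma.desc h) := flat_sigmaDesc h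
  have h2 : Surjective (Sigma.desc h) := surjective_sigmaDesc h hs
  have h0 : CompactSpace (∐ Q : Scheme.{u}) := (sigmaMk Q).compactSpace
  have h3 : QuasiCompact (Sigma.desc h) := quasiCompact_of_compactSpace _
  have h4 : IsImmersion (pullback.snd φ (Sigma.desc h)) := by
    refine IsZariskiLocalAtTarget.of_openCover (P := @IsImmersion) (sigmaOpenCover Q) fun i => ?_
    have hp : IsPullback (pullback.fst (pullback.snd φ (Sigma.desc h)) (Sigma.ι Q i) ≫
        pullback.fst φ (Sigma.desc h))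
        (pullback.snd (pullback.snd φ (Sigma.desc h)) (Sigma.ι Q i)) φ (h i) := by
      have := (IsPullback.of_hasPullback (pullback.snd φ (Sigma.desc h))
        (Sigma.ι Q i)).paste_horiz (IsPullback.of_hasPullback φ (Sigma.desc h))
      have h5 : Sigma.ι Q i ≫ Sigma.desc h = h i := Sigma.ι_desc _ _
      rwa [h5] at this
    have e : ((H i).isoIsPullback _ _ hp).inv ≫ φ' i =
      pullback.snd (pullback.snd φ (Sigma.desc h)) (Sigma.ι Q i) :=
      (H i).isoIsPullback_inv_snd _ _ hp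
    change IsImmersion (pullback.snd (pullback.snd φ (Sigma.desc h)) (Sigma.ι Q i))
    have h6 := him i
    rw [← e]
    infer_instance
  have h5 := Groth.Agent.Desc.ImmersionDescent.descendsAlong_qcImmersion.{u}
  have h6 : (@IsImmersion ⊓ @QuasiCompact : MorphismProperty Scheme.{u}) φ :=
    MorphismProperty.of_isPullback_of_descendsAlong
      (P := @IsImmersion ⊓ @QuasiCompact) (Q := @Surjective ⊓ @Flat ⊓ @QuasiCompact)
      (IsPullback.of_hasPullback φ (Sigma.desc h)).flip ⟨⟨h2, h1⟩, h3⟩ ⟨h4, inferInstance⟩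
  exact h6.1

/-- If a linear combination of sections generates at a point, one of the sections does. -/
theorem exists_mem_genLocus_of_sum {M : X.Modules} (hM : PicF.IsInvertible M) {κ : Type*}
    (T : Finset κ) (c : κ → Γ(X, ⊤)) (t : κ → Γ(M, ⊤)) (x : X)
    (hx : x ∈ CohB1.genLocus M (homOf (∑ k ∈ T, c k • t k))) :
    ∃ k ∈ T, x ∈ CohB1.genLocus M (homOf (t k)) := by
  obtain ⟨U, e, hxU, he⟩ := (isInvertible_iff M).mp hM x
  choose u hu using fun k => he.exists_eq (res M (le_top : U ≤ ⊤) (t k))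
  have h1 : sec (homOf (∑ k ∈ T, c k • t k)) U = (∑ k ∈ T, ores le_top (c k) * u k) • e := by
    rw [sec_homOf, map_sum, Finset.sum_smul]
    refine Finset.sum_congr rfl fun k _ => ?_
    rw [res_smul, hu k, smul_smul]
  have h2 := genLocus_inf_eq _ he h1
  have h3 : x ∈ X.basicOpen (∑ k ∈ T, ores le_top (c k) * u k) := h2 ▸ ⟨hx, hxU⟩
  rw [Scheme.mem_basicOpen _ _ _ hxU, map_sum] at h3
  obtain ⟨k, hk, h4⟩ := IsLocalRing.exists_of_isUnit_sum h3
  refine ⟨k, hk, ?_⟩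
  have h5 : x ∈ X.basicOpen (u k) := by
    rw [Scheme.mem_basicOpen _ _ _ hxU]
    rw [map_mul] at h4
    exact isUnit_of_mul_isUnit_right h4
  rw [← genLocus_inf_eq (homOf (t k)) he ((sec_homOf _ _).trans (hu k))] at h5
  exact h5.1

theorem isPullback_liftP {X' V : Scheme.{u}} {f : X ⟶ Y} {p : V ⟶ Y} {a : X' ⟶ X} {b : X' ⟶ V}
    (H : IsPullback a b f p) {m : ℕ} (r : X ⟶ CohB1.ProjSpace m Z.{u}) :
    IsPullback a (liftP (a ≫ r) b) (liftP r f) (mapBase m p) := by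
  refine IsPullback.of_bot (h₃₁ := p) (v₂₁ := CohB1.ProjSpaceOver.toBase m V)
    (v₂₂ := CohB1.ProjSpaceOver.toBase m Y) ?_ ?_ (isPullback_mapBase m p)
  · rw [liftP_toBase, liftP_toBase]
    exact H
  · refine hom_ext_over ?_ ?_
    · rw [Category.assoc, liftP_toZ, Category.assoc, mapBase_toZ, liftP_toZ]
    · rw [Category.assoc, liftP_toBase, Category.assoc, mapBase_toBase, ← Category.assoc,
        liftP_toBase, H.w]

/-- **Descent of very ampleness** along a finite jointly surjective family of flat morphisms from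
affine schemes to an affine scheme. -/
theorem isRelVeryAmplePn_of_finite_flat_family {ι : Type u} [Finite ι] {X Y : Scheme.{u}}
    [IsAffine Y] [CompactSpace X] [QuasiSeparatedSpace X] (f : X ⟶ Y) (V : ι → Scheme.{u})
    [∀ i, IsAffine (V i)] (p : ∀ i, V i ⟶ Y)
    [∀ i, Flat (p i)] (hp : ∀ y : Y, ∃ i, y ∈ Set.range (p i))
    {X' : ι → Scheme.{u}} {a : ∀ i, X' i ⟶ X} {b : ∀ i, X' i ⟶ V i}
    (H : ∀ i, IsPullback (a i) (b i) f (p i)) {L : X.Modules} (hL : PicF.IsInvertible L)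
    (hA : ∀ i, RelAmple.IsRelVeryAmplePn (b i) ((Scheme.Modules.pullback (a i)).obj L)) :
    RelAmple.IsRelVeryAmplePn f L := by
  classical
  have := Fintype.ofFinite ι
  choose n r₀ s hg him using fun i => (isRelVeryAmplePn_iff (b i) _).1 (hA i)
  choose T' hT' using fun i j => exists_finset (H i) hL (s i j)
  let T : Finset Γ(L, ⊤) := insert 0 (Finset.univ.biUnion fun i => Finset.univ.biUnion fun j => T' i j)
  have hT : ∀ i j, HasSpan (a i) (b i) L T (s i j) := fun i j => (hT' i j).mono (by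
    intro x hx
    refine Finset.mem_insert_of_mem ?_
    rw [Finset.mem_biUnion]
    refine ⟨i, Finset.mem_univ _, ?_⟩
    rw [Finset.mem_biUnion]
    exact ⟨j, Finset.mem_univ _, hx⟩)
  have hTn : 0 < T.card := Finset.card_pos.2 ⟨0, Finset.mem_insert_self _ _⟩
  obtain ⟨m, hm⟩ : ∃ m, T.card = m + 1 := ⟨T.card - 1, by omega⟩
  let e : Fin (m + 1) ≃ T := (T.equivFinOfCardEq hm).symm
  let t : Fin (m + 1) → Γ(L, ⊤) := fun k => (e k).1
  choose β hβ using hT
  have hs : ∀ i j, s i j = ∑ k, ((b i).appTop (β i j (t k))) • pullTop (a i) (t k) := by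
    intro i j
    rw [hβ i j, ← Finset.sum_coe_sort]
    exact (Equiv.sum_comp e (fun x : T => ((b i).appTop (β i j x.1)) • pullTop (a i) x.1)).symm
  have hcov : ⨆ k, CohB1.genLocus L (homOf (t k)) = ⊤ := by
    rw [eq_top_iff]
    intro x _
    obtain ⟨i, v, hv⟩ := hp (f x)
    obtain ⟨x', hx', -⟩ := Scheme.exists_preimage_of_isPullback (H i) x v hv.symm
    have h1 : x' ∈ ⨆ j, CohB1.genLocus _ (homOf (s i j)) := by
      rw [(hg i).iSup_genLocus]
      trivial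
    obtain ⟨j, hj⟩ := Opens.mem_iSup.1 h1
    rw [hs i j] at hj
    obtain ⟨k, -, hk⟩ := exists_mem_genLocus_of_sum (isInvertible_pullback (a i) hL) Finset.univ
      _ _ x' hj
    rw [genLocus_pullTop _ hL] at hk
    have hk' : a i x' ∈ CohB1.genLocus L (homOf (t k)) := hk
    rw [hx'] at hk'
    exact Opens.mem_iSup.2 ⟨k, hk'⟩
  obtain ⟨r, hr⟩ := exists_givenBy' t hcov
  have him' : ∀ i, IsImmersion (liftP (a i ≫ r) (b i)) := fun i =>
    isImmersion_liftP_of_span (b i) (hr.comp (a i)) (hg i) (fun j k => β i j (t k)) (hs i) (him i)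
  have h1 : QuasiCompact (liftP r f ≫ CohB1.ProjSpaceOver.toBase m Y) := by
    rw [liftP_toBase]
    infer_instance
  have h2 : QuasiCompact (liftP r f) :=
    QuasiCompact.of_comp (liftP r f) (CohB1.ProjSpaceOver.toBase m Y)
  have h3 : QuasiSeparatedSpace (CohB1.ProjSpaceOver m Y) :=
    quasiSeparatedSpace_of_quasiSeparated (CohB1.ProjSpaceOver.toBase m Y)
  have h4 : ∀ i, CompactSpace (CohB1.ProjSpaceOver m (V i)) := fun i =>
    QuasiCompact.compactSpace_of_compactSpace (CohB1.ProjSpaceOver.toBase m (V i))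
  have h5 : ∀ i, Flat (mapBase m (p i)) := fun i =>
    MorphismProperty.of_isPullback (P := @Flat) (isPullback_mapBase m (p i)).flip inferInstance
  have h6 : ∀ z : CohB1.ProjSpaceOver m Y, ∃ i, z ∈ Set.range (mapBase m (p i)) := by
    intro z
    obtain ⟨i, v, hv⟩ := hp (CohB1.ProjSpaceOver.toBase m Y z)
    obtain ⟨z', hz', -⟩ := Scheme.exists_preimage_of_isPullback (isPullback_mapBase m (p i)) z v
      hv.symm
    exact ⟨i, z', hz'⟩
  have h7 := isImmersion_of_finite_flat_family (liftP r f) (fun i => CohB1.ProjSpaceOver m (V i))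
    (fun i => mapBase m (p i)) h6 (fun i => isPullback_liftP (H i) r) him'
  exact (isRelVeryAmplePn_iff f L).2 ⟨m, r, t, hr, h7⟩

open Groth.Agent.Desc.AmpleDesc (restrictPullbackIso)
open Groth.Agent.K385 (VeryAmpleBC.of_isPullback VeryAmpleBC.of_iso)

/-- restriction to smaller opens of very ampleness, with base change -/
theorem isRelVeryAmplePn_resLE {X' Y' : Scheme.{u}} {f : X ⟶ Y} {g : Y' ⟶ Y} {a : X' ⟶ X}
    {b : X' ⟶ Y'} (H : IsPullback a b f g) {L : X.Modules} {U : Y.Opens} {U' : Y'.Opens}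
    (hU : U' ≤ g ⁻¹ᵁ U)
    (h : RelAmple.IsRelVeryAmplePn (f ∣_ U) (L.restrict (f ⁻¹ᵁ U).ι)) :
    RelAmple.IsRelVeryAmplePn (b ∣_ U')
      (((Scheme.Modules.pullback a).obj L).restrict (b ⁻¹ᵁ U').ι) := by
  have h1 : b ⁻¹ᵁ U' = a ⁻¹ᵁ (f ⁻¹ᵁ U) ⊓ b ⁻¹ᵁ U' := by
    refine (inf_eq_right.mpr ?_).symm
    rw [← Scheme.Hom.comp_preimage, H.w, Scheme.Hom.comp_preimage]
    exact Scheme.Hom.preimage_mono _ hU
  have h2 : b ⁻¹ᵁ U' ≤ a ⁻¹ᵁ (f ⁻¹ᵁ U) := by rw [h1]; exact inf_le_left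
  have h3 := Scheme.Hom.isPullback_resLE H hU le_rfl h1
  rw [Scheme.Hom.resLE_eq_morphismRestrict, Scheme.Hom.resLE_eq_morphismRestrict] at h3
  exact Groth.Agent.K385.VeryAmpleBC.of_iso (Groth.Agent.K385.VeryAmpleBC.of_isPullback h3 h)
    (restrictPullbackIso a L _ _ h2)

/-- **Descent of relative very ampleness** along quasi-compact flat surjective base change. -/
theorem exists_isRelVeryAmplePn {X' Y' : Scheme.{u}} {f : X ⟶ Y} {g : Y' ⟶ Y} {a : X' ⟶ X}
    {b : X' ⟶ Y'} (H : IsPullback a b f g) [QuasiCompact f] [Surjective g] [Flat g]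
    [QuasiCompact g] {L : X.Modules} (hL : PicF.IsInvertible L)
    (h : ∀ y' : Y', ∃ U' : Y'.Opens, y' ∈ U' ∧ RelAmple.IsRelVeryAmplePn (b ∣_ U')
      (((Scheme.Modules.pullback a).obj L).restrict (b ⁻¹ᵁ U').ι)) (U : Y.Opens)
    (hU : IsAffineOpen U) :
    RelAmple.IsRelVeryAmplePn (f ∣_ U) (L.restrict (f ⁻¹ᵁ U).ι) := by
  choose U' hy' hU' using h
  have hcov : ⨆ y', U' y' = ⊤ := by
    rw [eq_top_iff]
    exact fun y' _ => Opens.mem_iSup.2 ⟨y', hy' y'⟩
  have hsep : IsSeparated b := IsZariskiLocalAtTarget.of_iSup_eq_top (P := @IsSeparated) U' hcov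
    fun y' => Groth.Agent.K385.VeryAmpleBC.isSeparated_of_isRelVeryAmplePn (hU' y')
  have hqs : QuasiSeparated f := by
    have := Groth.Agent.Desc.QAffDesc.quasiSeparated_descendsAlong.{u}
    have hg : (@Surjective ⊓ @Flat ⊓ @QuasiCompact : MorphismProperty Scheme.{u}) g :=
      ⟨⟨inferInstance, inferInstance⟩, inferInstance⟩
    exact MorphismProperty.of_isPullback_of_descendsAlong
      (P := @QuasiSeparated) H.flip hg inferInstance
  -- affine opens of `Y'`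
  have hW : ∀ y' : (g ⁻¹ᵁ U : Y'.Opens), ∃ W : Y'.Opens, IsAffineOpen W ∧ y'.1 ∈ W ∧
      W ≤ g ⁻¹ᵁ U ∧ RelAmple.IsRelVeryAmplePn (b ∣_ W)
        (((Scheme.Modules.pullback a).obj L).restrict (b ⁻¹ᵁ W).ι) := by
    intro y'
    obtain ⟨W, hW, hyW, hWU⟩ := exists_affine_nhds
      (show y'.1 ∈ g ⁻¹ᵁ U ⊓ U' y'.1 from ⟨y'.2, hy' y'.1⟩)
    exact ⟨W, hW, hyW, hWU.trans inf_le_left,
      Groth.Agent.K385.VeryAmpleBC.restrict_of_le (hWU.trans inf_le_right) (hU' y'.1)⟩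
  choose W hWa hyW hWU hWA using hW
  obtain ⟨t, ht⟩ := (g.isCompact_preimage hU.isCompact).elim_finite_subcover
    (fun y' : (g ⁻¹ᵁ U : Y'.Opens) => (W y' : Set Y')) (fun y' => (W y').isOpen)
    (fun y' hy => Set.mem_iUnion.2 ⟨⟨y', hy⟩, hyW _⟩)
  have hVa : IsAffine U := hU
  have hIa : ∀ i : t, IsAffine (W i.1) := fun i ↦ hWa i.1
  have h1 : CompactSpace (f ⁻¹ᵁ U : X.Opens) :=
    isCompact_iff_compactSpace.mp (f.isCompact_preimage hU.isCompact)
  have h2 : QuasiSeparatedSpace (f ⁻¹ᵁ U : X.Opens) :=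
    isQuasiSeparated_iff_quasiSeparatedSpace _ (f ⁻¹ᵁ U).2 |>.mp
      (f.isQuasiSeparated_preimage hU.isQuasiSeparated)
  have h3 : ∀ i : t, b ⁻¹ᵁ W i.1 = a ⁻¹ᵁ (f ⁻¹ᵁ U) ⊓ b ⁻¹ᵁ W i.1 := fun i ↦ by
    refine (inf_eq_right.mpr ?_).symm
    rw [← Scheme.Hom.comp_preimage, H.w, Scheme.Hom.comp_preimage]
    exact Scheme.Hom.preimage_mono _ (hWU i.1)
  have h4 : ∀ i : t, Flat (g.resLE U (W i.1) (hWU i.1)) := fun i ↦ by
    delta Scheme.Hom.resLE
    infer_instance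
  have h5 : ∀ i : t, b ⁻¹ᵁ W i.1 ≤ a ⁻¹ᵁ (f ⁻¹ᵁ U) :=
    fun i ↦ by rw [h3 i]; exact inf_le_left
  have h6 : ∀ y : (U : Scheme.{u}), ∃ i : t, y ∈ Set.range (g.resLE U (W i.1) (hWU i.1)) := by
    intro y
    obtain ⟨x, hx⟩ := g.surjective y.1
    have hx' : x ∈ g ⁻¹ᵁ U := by
      show g x ∈ U
      rw [hx]
      exact y.2
    obtain ⟨i, hi, hxi⟩ := Set.mem_iUnion₂.1 (ht hx')
    refine ⟨⟨i, hi⟩, ⟨x, hxi⟩, ?_⟩
    apply Subtype.ext
    rw [Scheme.Hom.coe_resLE_apply]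
    exact hx
  have hL' : PicF.IsInvertible (L.restrict (f ⁻¹ᵁ U).ι) := by
    obtain ⟨W, g, hT⟩ := Groth.Agent.Desc.AmpleDesc.exists_trivs_of_isInvertible hL
    exact (hT.restrict (f ⁻¹ᵁ U).ι).isInvertible
  refine isRelVeryAmplePn_of_finite_flat_family (f ∣_ U)
    (fun i : t ↦ (W i.1 : Scheme.{u})) (fun i ↦ g.resLE U (W i.1) (hWU i.1)) h6
    (X' := fun i ↦ (b ⁻¹ᵁ W i.1 : X'.Opens))
    (a := fun i ↦ a.resLE (f ⁻¹ᵁ U) _ (h5 i))
    (b := fun i ↦ b ∣_ W i.1)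
    (fun i ↦ ?_) hL' (fun i => Groth.Agent.K385.VeryAmpleBC.of_iso (hWA i.1)
      (restrictPullbackIso _ L _ _ (h5 i)).symm)
  have h7 := Scheme.Hom.isPullback_resLE H (hWU i.1) le_rfl (h3 i)
  rw [Scheme.Hom.resLE_eq_morphismRestrict, Scheme.Hom.resLE_eq_morphismRestrict] at h7
  exact h7

end K390.PnDesc
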