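import Mathlib.AlgebraicTopology.CechNerve
import Mathlib.AlgebraicTopology.AlternatingFaceMapComplex
import Mathlib.RingTheory.Flat.FaithfullyFlat.Algebra
import Mathlib.Algebra.Category.Ring.Colimits
import Mathlib.Algebra.Category.Ring.Constructions
import Mathlib.Algebra.Homology.ShortComplex.Ab
import Mathlib.Algebra.Homology.ShortComplex.HomologicalComplex

/-!
# Exactness of the Amitsur complex, realised as the Čech conerve in commutative rings
-/

set_option autoImplicit false
open CategoryTheory CategoryTheory.Limits TensorProduct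
universe u

namespace K390.Amitsur

section abstract_lemma

variable (R A : Type u) [CommRing R] [CommRing A] [Algebra R A] [Module.FaithfullyFlat R A]
  {X0 X1 X2 : Type u} [AddCommGroup X0] [AddCommGroup X1] [AddCommGroup X2]
  [Module R X0] [Module R X1] [Module R X2] {n : ℕ}

/-- the alternating sum -/
noncomputable def alt {M N : Type u} [AddCommGroup M] [AddCommGroup N] [Module R M] [Module R N] {k : ℕ}
    (d : Fin k → M →ₗ[R] N) : M →ₗ[R] N := ∑ i : Fin k, (-1 : ℤ) ^ (i : ℕ) • d i

theorem lTensor_alt {M N : Type u} [AddCommGroup M] [AddCommGroup N] [Module R M] [Module R N] {k : ℕ}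
    (d : Fin k → M →ₗ[R] N) (z : A ⊗[R] M) : LinearMap.lTensor A (alt R d) z =
      ∑ i : Fin k, (-1 : ℤ) ^ (i : ℕ) • LinearMap.lTensor A (d i) z := by
  induction z with
  | zero => simp
  | add x y hx hy => rw [map_add, hx, hy, ← Finset.sum_add_distrib]; simp
  | tmul a m =>
    simp only [alt, LinearMap.lTensor_tmul, LinearMap.sum_apply, TensorProduct.tmul_sum]
    refine Finset.sum_congr rfl fun i _ => ?_
    rw [LinearMap.smul_apply]
    exact (TensorProduct.tmul_smul _ _ _)

theorem exact_of_homotopy (d0 : Fin (n + 2) → X0 →ₗ[R] X1) (d1 : Fin (n + 3) → X1 →ₗ[R] X2)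
    (hd : alt R d1 ∘ₗ alt R d0 = 0)
    (h1 : A ⊗[R] X1 →ₗ[R] A ⊗[R] X0) (h2 : A ⊗[R] X2 →ₗ[R] A ⊗[R] X1)
    (e0 : ∀ z, h2 (LinearMap.lTensor A (d1 0) z) = z)
    (e1 : ∀ (i : Fin (n + 2)) z, h2 (LinearMap.lTensor A (d1 i.succ) z) =
      LinearMap.lTensor A (d0 i) (h1 z)) :
    Function.Exact (alt R d0) (alt R d1) := by
  rw [← Module.FaithfullyFlat.lTensor_exact_iff_exact R A]
  have key : ∀ z, h2 (LinearMap.lTensor A (alt R d1) z) = z - LinearMap.lTensor A (alt R d0) (h1 z) := by
    intro z
    rw [lTensor_alt, lTensor_alt, Fin.sum_univ_succ, map_add, map_sum]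
    simp only [Fin.val_zero, pow_zero, one_smul, e0, Fin.val_succ, map_zsmul, e1, pow_succ]
    rw [sub_eq_add_neg, ← Finset.sum_neg_distrib]
    congr 1
    refine Finset.sum_congr rfl fun i _ => ?_
    simp
  intro z
  constructor
  · intro hz
    have := key z
    rw [hz, map_zero] at this
    exact ⟨h1 z, (sub_eq_zero.1 this.symm).symm⟩
  · rintro ⟨w, rfl⟩
    rw [← LinearMap.comp_apply, ← LinearMap.lTensor_comp, hd, LinearMap.lTensor_zero]
    rfl

end abstract_lemma

section conerve

variable {R A : CommRingCat.{u}} (f : R ⟶ A)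

/-- the Čech conerve -/
noncomputable abbrev X : CosimplicialObject CommRingCat.{u} := (Arrow.mk f).cechConerve

/-- the structure map -/
noncomputable abbrev hd (n : SimplexCategory) : R ⟶ (X f).obj n :=
  WidePushout.head (fun _ : Fin (n.len + 1) => f)

/-- the coprojections -/
noncomputable abbrev inc (n : SimplexCategory) (i : Fin (n.len + 1)) : A ⟶ (X f).obj n :=
  WidePushout.ι (fun _ : Fin (n.len + 1) => f) i

theorem f_inc (n : SimplexCategory) (i : Fin (n.len + 1)) : f ≫ inc f n i = hd f n :=
  WidePushout.arrow_ι (fun _ : Fin (n.len + 1) => f) i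

theorem hd_map {m n : SimplexCategory} (g : m ⟶ n) : hd f m ≫ (X f).map g = hd f n :=
  WidePushout.head_desc _ _ _ _

theorem inc_map {m n : SimplexCategory} (g : m ⟶ n) (i : Fin (m.len + 1)) :
    inc f m i ≫ (X f).map g = inc f n (g.toOrderHom i) :=
  WidePushout.ι_desc _ _ _ _ _

theorem hom_ext {n : SimplexCategory} {T : CommRingCat.{u}} {a b : (X f).obj n ⟶ T}
    (h : ∀ i, inc f n i ≫ a = inc f n i ≫ b) : a = b := by
  refine WidePushout.hom_ext _ _ _ h ?_
  change hd f n ≫ a = hd f n ≫ b
  rw [← f_inc f n 0, Category.assoc, h, Category.assoc]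

/-- the universal property -/
noncomputable def desc {n : SimplexCategory} {T : CommRingCat.{u}} (t : R ⟶ T)
    (a : Fin (n.len + 1) → (A ⟶ T)) (h : ∀ i, f ≫ a i = t) : (X f).obj n ⟶ T :=
  WidePushout.desc t a h

theorem inc_desc {n : SimplexCategory} {T : CommRingCat.{u}} (t : R ⟶ T)
    (a : Fin (n.len + 1) → (A ⟶ T)) (h : ∀ i, f ≫ a i = t) (i : Fin (n.len + 1)) :
    inc f n i ≫ desc f t a h = a i := WidePushout.ι_desc _ _ _ _ _

theorem hd_desc {n : SimplexCategory} {T : CommRingCat.{u}} (t : R ⟶ T)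
    (a : Fin (n.len + 1) → (A ⟶ T)) (h : ∀ i, f ≫ a i = t) :
    hd f n ≫ desc f t a h = t := WidePushout.head_desc _ _ _ _

end conerve

section algebra

variable (R A : Type u) [CommRing R] [CommRing A] [Algebra R A]

/-- the structure map as a morphism -/
noncomputable abbrev F : CommRingCat.of R ⟶ CommRingCat.of A := CommRingCat.ofHom (algebraMap R A)

/-- the terms -/
noncomputable abbrev Y (n : SimplexCategory) : CommRingCat.{u} := (X (F R A)).obj n

noncomputable instance algY (n : SimplexCategory) : Algebra R (Y R A n) := (hd (F R A) n).hom.toAlgebra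

theorem algebraMap_Y (n : SimplexCategory) : algebraMap R (Y R A n) = (hd (F R A) n).hom := rfl

/-- coprojections as algebra homs -/
noncomputable def incA (n : SimplexCategory) (i : Fin (n.len + 1)) : A →ₐ[R] Y R A n :=
  { (inc (F R A) n i).hom with
    commutes' := fun r => by
      have := ConcreteCategory.congr_hom (f_inc (F R A) n i) r
      exact this }

theorem incA_apply (n : SimplexCategory) (i : Fin (n.len + 1)) (a : A) :
    incA R A n i a = (inc (F R A) n i).hom a := rfl

/-- the cosimplicial maps as algebra homs -/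
noncomputable def mapA {m n : SimplexCategory} (g : m ⟶ n) : Y R A m →ₐ[R] Y R A n :=
  { ((X (F R A)).map g).hom with
    commutes' := fun r => by
      have := ConcreteCategory.congr_hom (hd_map (F R A) g) r
      exact this }

theorem mapA_apply {m n : SimplexCategory} (g : m ⟶ n) (x : Y R A m) :
    mapA R A g x = ((X (F R A)).map g).hom x := rfl

theorem mapA_incA {m n : SimplexCategory} (g : m ⟶ n) (i : Fin (m.len + 1)) (a : A) :
    mapA R A g (incA R A m i a) = incA R A n (g.toOrderHom i) a :=
  ConcreteCategory.congr_hom (inc_map (F R A) g i) a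

variable {R A} in
theorem algHom_ext {n : SimplexCategory} {T : Type u} [CommRing T] [Algebra R T] {a b : Y R A n →ₐ[R] T}
    (h : ∀ i x, a (incA R A n i x) = b (incA R A n i x)) : a = b := by
  have : CommRingCat.ofHom (a : Y R A n →+* T) = CommRingCat.ofHom (b : Y R A n →+* T) := by
    refine hom_ext (F R A) fun i => ?_
    ext x
    exact h i x
  ext x
  exact ConcreteCategory.congr_hom this x

variable {R A} in
/-- universal property -/
noncomputable def descA {n : SimplexCategory} {T : Type u} [CommRing T] [Algebra R T]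
    (a : Fin (n.len + 1) → (A →ₐ[R] T)) : Y R A n →ₐ[R] T :=
  { (desc (F R A) (T := CommRingCat.of T) (CommRingCat.ofHom (algebraMap R T))
      (fun i => CommRingCat.ofHom (a i : A →+* T)) (fun i => by
        ext r
        exact (a i).commutes r)).hom with
    commutes' := fun r => ConcreteCategory.congr_hom (hd_desc (F R A) (T := CommRingCat.of T)
      (CommRingCat.ofHom (algebraMap R T)) (fun i => CommRingCat.ofHom (a i : A →+* T)) _) r }

variable {R A} in
theorem descA_incA {n : SimplexCategory} {T : Type u} [CommRing T] [Algebra R T]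
    (a : Fin (n.len + 1) → (A →ₐ[R] T)) (i : Fin (n.len + 1)) (x : A) :
    descA a (incA R A n i x) = a i x :=
  ConcreteCategory.congr_hom (inc_desc (F R A) (T := CommRingCat.of T)
      (CommRingCat.ofHom (algebraMap R T)) (fun i => CommRingCat.ofHom (a i : A →+* T)) _ i) x

open SimplexCategory

/-- the contraction on `X (n+1)` -/
noncomputable def hX (n : ℕ) : Y R A (mk (n + 1)) →ₐ[R] A ⊗[R] Y R A (mk n) :=
  descA (Fin.cases Algebra.TensorProduct.includeLeft
    (fun i => Algebra.TensorProduct.includeRight.comp (incA R A (mk n) i)))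

theorem hX_zero (n : ℕ) (a : A) : hX R A n (incA R A (mk (n + 1)) 0 a) = a ⊗ₜ 1 := descA_incA _ _ _

theorem hX_succ (n : ℕ) (i : Fin (n + 1)) (a : A) :
    hX R A n (incA R A (mk (n + 1)) i.succ a) = 1 ⊗ₜ incA R A (mk n) i a := descA_incA _ _ _

/-- the contraction -/
noncomputable def h (n : ℕ) : A ⊗[R] Y R A (mk (n + 1)) →ₐ[R] A ⊗[R] Y R A (mk n) :=
  Algebra.TensorProduct.productMap Algebra.TensorProduct.includeLeft (hX R A n)

theorem h_tmul (n : ℕ) (a : A) (x : Y R A (mk (n + 1))) : h R A n (a ⊗ₜ x) = (a ⊗ₜ 1) * hX R A n x := rfl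

/-- cofaces as linear maps -/
noncomputable abbrev δA (n : ℕ) (i : Fin (n + 2)) : Y R A (mk n) →ₐ[R] Y R A (mk (n + 1)) :=
  mapA R A (SimplexCategory.δ i)

theorem hX_δ_zero (n : ℕ) (x : Y R A (mk n)) : hX R A n (δA R A n 0 x) = 1 ⊗ₜ x := by
  have : (hX R A n).comp (δA R A n 0) = Algebra.TensorProduct.includeRight := by
    refine algHom_ext fun i a => ?_
    rw [AlgHom.comp_apply, mapA_incA]
    exact hX_succ R A n i a
  exact DFunLike.congr_fun this x

theorem hX_δ_succ (n : ℕ) (i : Fin (n + 2)) (x : Y R A (mk (n + 1))) :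
    hX R A (n + 1) (δA R A (n + 1) i.succ x) =
      Algebra.TensorProduct.map (AlgHom.id R A) (δA R A n i) (hX R A n x) := by
  have : (hX R A (n + 1)).comp (δA R A (n + 1) i.succ) =
      (Algebra.TensorProduct.map (AlgHom.id R A) (δA R A n i)).comp (hX R A n) := by
    refine algHom_ext fun j a => ?_
    rw [AlgHom.comp_apply, AlgHom.comp_apply, mapA_incA]
    change Fin (n + 1 + 1) at j
    have hj : (SimplexCategory.δ i.succ : SimplexCategory.mk (n + 1) ⟶ SimplexCategory.mk (n + 2)).toOrderHom j = i.succ.succAbove j := rfl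
    rw [hj]
    refine Fin.cases ?_ (fun k => ?_) j
    · rw [Fin.succ_succAbove_zero, hX_zero, hX_zero]
      simp
    · rw [Fin.succ_succAbove_succ, hX_succ, hX_succ]
      simp only [Algebra.TensorProduct.map_tmul, map_one, mapA_incA]
      rfl
  exact DFunLike.congr_fun this x

theorem h_δ_zero (n : ℕ) (z : A ⊗[R] Y R A (mk n)) :
    h R A n (LinearMap.lTensor A (δA R A n 0).toLinearMap z) = z := by
  induction z with
  | zero => simp
  | add x y hx hy => rw [map_add, map_add, hx, hy]
  | tmul a x =>
    rw [LinearMap.lTensor_tmul, AlgHom.toLinearMap_apply, h_tmul, hX_δ_zero]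
    simp

theorem h_δ_succ (n : ℕ) (i : Fin (n + 2)) (z : A ⊗[R] Y R A (mk (n + 1))) :
    h R A (n + 1) (LinearMap.lTensor A (δA R A (n + 1) i.succ).toLinearMap z) =
      LinearMap.lTensor A (δA R A n i).toLinearMap (h R A n z) := by
  induction z with
  | zero => simp
  | add x y hx hy => simp only [map_add, hx, hy]
  | tmul a x =>
    rw [LinearMap.lTensor_tmul, AlgHom.toLinearMap_apply, h_tmul, hX_δ_succ, h_tmul]
    generalize hX R A n x = y
    have : ∀ w : A ⊗[R] Y R A (mk n), LinearMap.lTensor A (δA R A n i).toLinearMap w =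
        Algebra.TensorProduct.map (AlgHom.id R A) (δA R A n i) w := fun w => rfl
    rw [this, map_mul]
    simp

/-- The cosimplicial abelian group. -/
noncomputable abbrev Z : CosimplicialObject AddCommGrpCat.{u} :=
  (Arrow.mk (CommRingCat.ofHom (algebraMap R A))).cechConerve ⋙ forget₂ CommRingCat RingCat ⋙
        forget₂ RingCat AddCommGrpCat

theorem objD_apply (n : ℕ) (x : Y R A (mk n)) :
    (AlgebraicTopology.AlternatingCofaceMapComplex.objD (Z R A) n).hom x =
      alt R (fun i : Fin (n + 2) => (δA R A n i).toLinearMap) x := by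
  simp only [AlgebraicTopology.AlternatingCofaceMapComplex.objD, alt, LinearMap.sum_apply]
  have h1 : (∑ i : Fin (n + 2), (-1 : ℤ) ^ (i : ℕ) • (Z R A).δ i).hom =
      ∑ i : Fin (n + 2), (-1 : ℤ) ^ (i : ℕ) • ((Z R A).δ i).hom :=
    map_sum (AddCommGrpCat.homAddEquiv (M := (Z R A).obj (mk n)) (N := (Z R A).obj (mk (n + 1)))) _ _
  rw [h1, AddMonoidHom.finset_sum_apply]
  rfl

theorem exactAt [Module.FaithfullyFlat R A] (n : ℕ) :
    (AlgebraicTopology.AlternatingCofaceMapComplex.obj (Z R A)).ExactAt (n + 1) := by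
  rw [HomologicalComplex.exactAt_iff' _ n (n + 1) (n + 2) (by simp) (by simp),
    ShortComplex.ab_exact_iff_function_exact]
  have hd0 : (AlgebraicTopology.AlternatingCofaceMapComplex.obj (Z R A)).d n (n + 1) =
      AlgebraicTopology.AlternatingCofaceMapComplex.objD (Z R A) n := by
    dsimp only [AlgebraicTopology.AlternatingCofaceMapComplex.obj]
    exact CochainComplex.of_d _ _ _
  have hd1 : (AlgebraicTopology.AlternatingCofaceMapComplex.obj (Z R A)).d (n + 1) (n + 2) =
      AlgebraicTopology.AlternatingCofaceMapComplex.objD (Z R A) (n + 1) := by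
    dsimp only [AlgebraicTopology.AlternatingCofaceMapComplex.obj]
    exact CochainComplex.of_d _ _ _
  have hsq : alt R (fun i : Fin (n + 3) => (δA R A (n + 1) i).toLinearMap) ∘ₗ
      alt R (fun i : Fin (n + 2) => (δA R A n i).toLinearMap) = 0 := by
    ext x
    have := ConcreteCategory.congr_hom
      (AlgebraicTopology.AlternatingCofaceMapComplex.d_squared (Z R A) n) x
    rw [LinearMap.comp_apply, ← objD_apply, ← objD_apply]
    exact this
  have key := exact_of_homotopy R A (fun i : Fin (n + 2) => (δA R A n i).toLinearMap)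
    (fun i : Fin (n + 3) => (δA R A (n + 1) i).toLinearMap) hsq
    (h R A n).toLinearMap (h R A (n + 1)).toLinearMap (h_δ_zero R A (n + 1)) (h_δ_succ R A n)
  intro x
  have h1 : ((AlgebraicTopology.AlternatingCofaceMapComplex.obj (Z R A)).sc' n (n + 1) (n + 2)).f =
      AlgebraicTopology.AlternatingCofaceMapComplex.objD (Z R A) n := hd0
  have h2 : ((AlgebraicTopology.AlternatingCofaceMapComplex.obj (Z R A)).sc' n (n + 1) (n + 2)).g =
      AlgebraicTopology.AlternatingCofaceMapComplex.objD (Z R A) (n + 1) := hd1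
  rw [h1, h2]
  refine Iff.trans ?_ ((key x).trans ?_)
  · exact ⟨fun hx => (objD_apply R A (n + 1) x).symm.trans hx,
      fun hx => (objD_apply R A (n + 1) x).trans hx⟩
  · constructor
    · rintro ⟨y, hy⟩
      exact ⟨y, (objD_apply R A n y).trans hy⟩
    · rintro ⟨y, hy⟩
      exact ⟨y, (objD_apply R A n y).symm.trans hy⟩

end algebra

end K390.Amitsur
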