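import Groth.Prelude.Def_DescFam

/-!
# Pullback of descent data for schemes: independence of the morphism of families, identity, composition

* `isoMk`: isomorphisms of descent data from compatible natural bijections on points;
* `pullIso`: `pullDDFam w₁ ≅ pullDDFam w₂` for two morphisms of families over the same `p : S' ⟶ S`;
* `pullId`, `pullComp`.
-/

set_option autoImplicit false
set_option backward.isDefEq.respectTransparency false
set_option backward.isDefEq.respectTransparency.types false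
open CategoryTheory CategoryTheory.Limits AlgebraicGeometry
universe w'' w' w u

namespace K390.PullIso

open _root_.Desc

section points

variable {X : Scheme.{u}} {V V' : Over X}

/-- A natural map on points over `X`. -/
structure PtHom (V V' : Over X) where
  /-- the map on points -/
  app : ∀ ⦃T : Scheme.{u}⦄ (x : T ⟶ X), Lifts V x → Lifts V' x
  nat : ∀ ⦃T T' : Scheme.{u}⦄ (g : T' ⟶ T) (x : T ⟶ X) (y : T' ⟶ X) (_ : g ≫ x = y)
    (v : Lifts V x) (v' : Lifts V y), v'.1 = g ≫ v.1 → (app y v').1 = g ≫ (app x v).1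

/-- The morphism over `X` given by a natural map on points. -/
def PtHom.hom (ψ : PtHom V V') : V ⟶ V' :=
  Over.homMk (ψ.app V.hom ⟨𝟙 _, Category.id_comp _⟩).1 (ψ.app V.hom ⟨𝟙 _, Category.id_comp _⟩).2

theorem PtHom.comp_hom (ψ : PtHom V V') {T : Scheme.{u}} (x : T ⟶ X) (v : Lifts V x) :
    v.1 ≫ ψ.hom.left = (ψ.app x v).1 :=
  (ψ.nat v.1 V.hom x v.2 ⟨𝟙 _, Category.id_comp _⟩ v (Category.comp_id _).symm).symm

end points

section

variable {S : Scheme.{u}} {ι : Type w} {X : ι → Scheme.{u}} {f : ∀ i, X i ⟶ S}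

/-- A morphism of descent data from compatible natural maps on points. -/
def homMk {D D' : SchDDFam f} (ψ : ∀ i, PtHom (D.obj i) (D'.obj i))
    (comm : ∀ ⦃T : Scheme.{u}⦄ ⦃i j : ι⦄ (x₀ : T ⟶ X i) (x₁ : T ⟶ X j) (h : x₀ ≫ f i = x₁ ≫ f j)
      (v : Lifts (D.obj i) x₀), D'.φ x₀ x₁ h ((ψ i).app x₀ v) = (ψ j).app x₁ (D.φ x₀ x₁ h v)) :
    D ⟶ D' where
  hom i := (ψ i).hom
  comm T i j x₀ x₁ h v w hw := by
    have e : w = (ψ i).app x₀ v := Subtype.ext (by rw [hw, (ψ i).comp_hom])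
    rw [e, comm, (ψ j).comp_hom]

theorem lifts_hom_ext {V V' : Over S} {a b : V ⟶ V'}
    (h : ∀ ⦃T : Scheme.{u}⦄ (x : T ⟶ S) (v : Lifts V x), v.1 ≫ a.left = v.1 ≫ b.left) : a = b := by
  apply Over.OverMorphism.ext
  have := h V.hom ⟨𝟙 _, Category.id_comp _⟩
  simpa using this

/-- An isomorphism of descent data from compatible natural bijections on points. -/
@[simps]
def isoMk {D D' : SchDDFam f} (ψ : ∀ i, PtHom (D.obj i) (D'.obj i)) (ψ' : ∀ i, PtHom (D'.obj i) (D.obj i))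
    (h₁ : ∀ i ⦃T : Scheme.{u}⦄ (x : T ⟶ X i) (v : Lifts (D.obj i) x), (ψ' i).app x ((ψ i).app x v) = v)
    (h₂ : ∀ i ⦃T : Scheme.{u}⦄ (x : T ⟶ X i) (v : Lifts (D'.obj i) x), (ψ i).app x ((ψ' i).app x v) = v)
    (comm : ∀ ⦃T : Scheme.{u}⦄ ⦃i j : ι⦄ (x₀ : T ⟶ X i) (x₁ : T ⟶ X j) (h : x₀ ≫ f i = x₁ ≫ f j)
      (v : Lifts (D.obj i) x₀), D'.φ x₀ x₁ h ((ψ i).app x₀ v) = (ψ j).app x₁ (D.φ x₀ x₁ h v)) :
    D ≅ D' where
  hom := homMk ψ comm
  inv := homMk ψ' (fun T i j x₀ x₁ h v => by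
    have := comm x₀ x₁ h ((ψ' i).app x₀ v)
    rw [h₂] at this
    rw [this, h₁])
  hom_inv_id := by
    apply SchDDFam.hom_ext
    funext i
    apply lifts_hom_ext
    intro T x v
    change v.1 ≫ (ψ i).hom.left ≫ (ψ' i).hom.left = v.1 ≫ 𝟙 _
    rw [← Category.assoc, (ψ i).comp_hom x v, (ψ' i).comp_hom x _, h₁, Category.comp_id]
  inv_hom_id := by
    apply SchDDFam.hom_ext
    funext i
    apply lifts_hom_ext
    intro T x v
    change v.1 ≫ (ψ' i).hom.left ≫ (ψ i).hom.left = v.1 ≫ 𝟙 _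
    rw [← Category.assoc, (ψ' i).comp_hom x v, (ψ i).comp_hom x _, h₂, Category.comp_id]

variable {S' : Scheme.{u}} {ι' : Type w'} {X' : ι' → Scheme.{u}} {f' : ∀ j, X' j ⟶ S'}
  {p : S' ⟶ S} {α β : ι' → ι} {p₁ : ∀ j, X' j ⟶ X (α j)} {p₂ : ∀ j, X' j ⟶ X (β j)}
  (w₁ : ∀ j, p₁ j ≫ f (α j) = f' j ≫ p) (w₂ : ∀ j, p₂ j ≫ f (β j) = f' j ≫ p)

theorem lpe_val {Y Y' : Scheme.{u}} (V : Over Y) (q : Y' ⟶ Y) {T : Scheme.{u}} (x : T ⟶ Y')
    (v : Lifts (Over.mk (pullback.snd V.hom q)) x) :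
    (liftsPullbackEquiv V q x v).1 = v.1 ≫ pullback.fst V.hom q := rfl

theorem lpe_symm_fst {Y Y' : Scheme.{u}} (V : Over Y) (q : Y' ⟶ Y) {T : Scheme.{u}} (x : T ⟶ Y')
    (v : Lifts V (x ≫ q)) :
    ((liftsPullbackEquiv V q x).symm v).1 ≫ pullback.fst V.hom q = v.1 :=
  pullback.lift_fst _ _ _

include w₁ w₂ in
theorem compat {T : Scheme.{u}} {j : ι'} (x : T ⟶ X' j) :
    (x ≫ p₁ j) ≫ f (α j) = (x ≫ p₂ j) ≫ f (β j) := by
  rw [Category.assoc, w₁, Category.assoc, w₂]

/-- the comparison on points -/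
noncomputable def pullPt (D : SchDDFam f) (j : ι') :
    PtHom ((pullDDFamObj w₁ D).obj j) ((pullDDFamObj w₂ D).obj j) where
  app T x v := (liftsPullbackEquiv (D.obj (β j)) (p₂ j) x).symm
    (D.φ (x ≫ p₁ j) (x ≫ p₂ j) (compat w₁ w₂ x) (liftsPullbackEquiv (D.obj (α j)) (p₁ j) x v))
  nat T T' g x y hy v v' hv' := by
    subst hy
    apply pullback.hom_ext
    · refine Eq.trans ?_ (Category.assoc _ _ _).symm
      refine (lpe_symm_fst _ _ _ _).trans (Eq.trans ?_ (congrArg (g ≫ ·) (lpe_symm_fst _ _ _ _)).symm)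
      refine D.φ_natural g (x ≫ p₁ j) (x ≫ p₂ j) (compat w₁ w₂ x) ((g ≫ x) ≫ p₁ j) ((g ≫ x) ≫ p₂ j)
        (Category.assoc _ _ _).symm (Category.assoc _ _ _).symm _ _ _ ?_
      rw [lpe_val, lpe_val, hv', Category.assoc]
    · refine Eq.trans ?_ (Category.assoc _ _ _).symm
      have h1 := ((liftsPullbackEquiv (D.obj (β j)) (p₂ j) (g ≫ x)).symm
        (D.φ ((g ≫ x) ≫ p₁ j) ((g ≫ x) ≫ p₂ j) (compat w₁ w₂ (g ≫ x))
          (liftsPullbackEquiv (D.obj (α j)) (p₁ j) (g ≫ x) v'))).2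
      have h2 := ((liftsPullbackEquiv (D.obj (β j)) (p₂ j) x).symm
        (D.φ (x ≫ p₁ j) (x ≫ p₂ j) (compat w₁ w₂ x)
          (liftsPullbackEquiv (D.obj (α j)) (p₁ j) x v))).2
      exact h1.trans (congrArg (g ≫ ·) h2).symm

theorem pullPt_app (D : SchDDFam f) (j : ι') {T : Scheme.{u}} (x : T ⟶ X' j)
    (v : Lifts ((pullDDFamObj w₁ D).obj j) x) :
    (pullPt w₁ w₂ D j).app x v = (liftsPullbackEquiv (D.obj (β j)) (p₂ j) x).symm
    (D.φ (x ≫ p₁ j) (x ≫ p₂ j) (compat w₁ w₂ x) (liftsPullbackEquiv (D.obj (α j)) (p₁ j) x v)) := rfl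

/-- the isomorphism between the two pullbacks of a descent datum -/
noncomputable def pullIsoApp (D : SchDDFam f) : pullDDFamObj w₁ D ≅ pullDDFamObj w₂ D :=
  isoMk (pullPt w₁ w₂ D) (pullPt w₂ w₁ D)
    (by
      intro j T x v
      rw [pullPt_app, pullPt_app, Equiv.apply_symm_apply, D.φ_comp, D.φ_self, Equiv.symm_apply_apply])
    (by
      intro j T x v
      rw [pullPt_app, pullPt_app, Equiv.apply_symm_apply, D.φ_comp, D.φ_self, Equiv.symm_apply_apply])
    (by
      intro T i j x₀ x₁ h v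
      rw [pullPt_app, pullPt_app]
      simp only [pullDDFamObj, Equiv.trans_apply, Equiv.apply_symm_apply, D.φ_comp])

/-- Two morphisms of families over the same `p : S' ⟶ S` give isomorphic pullback functors. -/
noncomputable def pullIso : pullDDFam w₁ ≅ pullDDFam w₂ :=
  NatIso.ofComponents (fun D => pullIsoApp w₁ w₂ D) (by
    intro D D' a
    apply SchDDFam.hom_ext
    funext j
    apply lifts_hom_ext
    intro T x v
    change v.1 ≫ (((pullDDFam w₁).map a).hom j).left ≫ ((pullPt w₁ w₂ D' j).hom).left =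
      v.1 ≫ ((pullPt w₁ w₂ D j).hom).left ≫ (((pullDDFam w₂).map a).hom j).left
    have e1 := (pullPt w₁ w₂ D j).comp_hom x v
    have e2 := (pullPt w₁ w₂ D' j).comp_hom x (((pullDDFam w₁).map a).push v)
    rw [← Category.assoc, ← Category.assoc, e1]
    refine e2.trans ?_
    rw [pullPt_app, pullPt_app]
    apply pullback.hom_ext
    · erw [lpe_symm_fst]
      have key := a.comm (x ≫ p₁ j) (x ≫ p₂ j) (compat w₁ w₂ x)
        (liftsPullbackEquiv (D.obj (α j)) (p₁ j) x v)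
        (liftsPullbackEquiv (D'.obj (α j)) (p₁ j) x (((pullDDFam w₁).map a).push v)) (by
          simp [liftsPullbackEquiv, SchDDFam.Hom.push, pullDDFam])
      rw [key]
      simp [liftsPullbackEquiv, pullDDFam]
    · have h1 := ((liftsPullbackEquiv (D'.obj (β j)) (p₂ j) x).symm
        (D'.φ (x ≫ p₁ j) (x ≫ p₂ j) (compat w₁ w₂ x)
          (liftsPullbackEquiv (D'.obj (α j)) (p₁ j) x (((pullDDFam w₁).map a).push v)))).2
      refine h1.trans ?_
      simp [liftsPullbackEquiv, pullDDFam])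

end

section self

variable {S : Scheme.{u}} {ι : Type w} {X : ι → Scheme.{u}} {f : ∀ i, X i ⟶ S}
  {α : ι → ι} {p₁ : ∀ j, X j ⟶ X (α j)} (w₁ : ∀ j, p₁ j ≫ f (α j) = f j ≫ 𝟙 S)

include w₁ in
theorem compatS {T : Scheme.{u}} {j : ι} (x : T ⟶ X j) :
    (x ≫ p₁ j) ≫ f (α j) = x ≫ f j := by
  rw [Category.assoc, w₁, Category.comp_id]

/-- the comparison on points -/
noncomputable def selfPt (D : SchDDFam f) (j : ι) :
    PtHom ((pullDDFamObj w₁ D).obj j) (D.obj j) where
  app T x v := D.φ (x ≫ p₁ j) x (compatS w₁ x) (liftsPullbackEquiv (D.obj (α j)) (p₁ j) x v)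
  nat T T' g x y hy v v' hv' := by
    subst hy
    refine D.φ_natural g (x ≫ p₁ j) x (compatS w₁ x) ((g ≫ x) ≫ p₁ j) (g ≫ x)
      (Category.assoc _ _ _).symm rfl _ _ _ ?_
    rw [lpe_val, lpe_val, hv', Category.assoc]

/-- the inverse comparison on points -/
noncomputable def selfPt' (D : SchDDFam f) (j : ι) :
    PtHom (D.obj j) ((pullDDFamObj w₁ D).obj j) where
  app T x v := (liftsPullbackEquiv (D.obj (α j)) (p₁ j) x).symm
    (D.φ x (x ≫ p₁ j) (compatS w₁ x).symm v)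
  nat T T' g x y hy v v' hv' := by
    subst hy
    apply pullback.hom_ext
    · refine Eq.trans ?_ (Category.assoc _ _ _).symm
      refine (lpe_symm_fst _ _ _ _).trans (Eq.trans ?_ (congrArg (g ≫ ·) (lpe_symm_fst _ _ _ _)).symm)
      exact D.φ_natural g x (x ≫ p₁ j) (compatS w₁ x).symm (g ≫ x) ((g ≫ x) ≫ p₁ j)
        rfl (Category.assoc _ _ _).symm _ _ _ hv'
    · refine Eq.trans ?_ (Category.assoc _ _ _).symm
      have h1 := ((liftsPullbackEquiv (D.obj (α j)) (p₁ j) (g ≫ x)).symm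
        (D.φ (g ≫ x) ((g ≫ x) ≫ p₁ j) (compatS w₁ (g ≫ x)).symm v')).2
      have h2 := ((liftsPullbackEquiv (D.obj (α j)) (p₁ j) x).symm
        (D.φ x (x ≫ p₁ j) (compatS w₁ x).symm v)).2
      exact h1.trans (congrArg (g ≫ ·) h2).symm

theorem selfPt_app (D : SchDDFam f) (j : ι) {T : Scheme.{u}} (x : T ⟶ X j)
    (v : Lifts ((pullDDFamObj w₁ D).obj j) x) :
    (selfPt w₁ D j).app x v =
    D.φ (x ≫ p₁ j) x (compatS w₁ x) (liftsPullbackEquiv (D.obj (α j)) (p₁ j) x v) := rfl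

theorem selfPt'_app (D : SchDDFam f) (j : ι) {T : Scheme.{u}} (x : T ⟶ X j) (v : Lifts (D.obj j) x) :
    (selfPt' w₁ D j).app x v = (liftsPullbackEquiv (D.obj (α j)) (p₁ j) x).symm
      (D.φ x (x ≫ p₁ j) (compatS w₁ x).symm v) := rfl

/-- the isomorphism between a descent datum and its pullback along a self map of the family -/
noncomputable def selfIsoApp (D : SchDDFam f) : pullDDFamObj w₁ D ≅ D :=
  isoMk (selfPt w₁ D) (selfPt' w₁ D)
    (by
      intro j T x v
      rw [selfPt_app, selfPt'_app, D.φ_comp, D.φ_self, Equiv.symm_apply_apply])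
    (by
      intro j T x v
      rw [selfPt_app, selfPt'_app, Equiv.apply_symm_apply, D.φ_comp, D.φ_self])
    (by
      intro T i j x₀ x₁ h v
      rw [selfPt_app, selfPt_app]
      simp only [pullDDFamObj, Equiv.trans_apply, Equiv.apply_symm_apply, D.φ_comp])

/-- Pullback along a self map of a family (over the identity of the base) is isomorphic to the identity. -/
noncomputable def selfIso : pullDDFam w₁ ≅ 𝟭 (SchDDFam f) :=
  NatIso.ofComponents (fun D => selfIsoApp w₁ D) (by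
    intro D D' a
    apply SchDDFam.hom_ext
    funext j
    apply lifts_hom_ext
    intro T x v
    change v.1 ≫ (((pullDDFam w₁).map a).hom j).left ≫ ((selfPt w₁ D' j).hom).left =
      v.1 ≫ ((selfPt w₁ D j).hom).left ≫ (a.hom j).left
    have e1 := (selfPt w₁ D j).comp_hom x v
    have e2 := (selfPt w₁ D' j).comp_hom x (((pullDDFam w₁).map a).push v)
    rw [← Category.assoc, ← Category.assoc, e1]
    refine e2.trans ?_
    rw [selfPt_app, selfPt_app]
    exact a.comm (x ≫ p₁ j) x (compatS w₁ x)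
        (liftsPullbackEquiv (D.obj (α j)) (p₁ j) x v)
        (liftsPullbackEquiv (D'.obj (α j)) (p₁ j) x (((pullDDFam w₁).map a).push v)) (by
          simp [liftsPullbackEquiv, SchDDFam.Hom.push, pullDDFam]))

end self

section comp

variable {S : Scheme.{u}} {ι : Type w} {X : ι → Scheme.{u}} {f : ∀ i, X i ⟶ S}
  {S' : Scheme.{u}} {ι' : Type w'} {X' : ι' → Scheme.{u}} {f' : ∀ j, X' j ⟶ S'}
  {S'' : Scheme.{u}} {ι'' : Type w''} {X'' : ι'' → Scheme.{u}} {f'' : ∀ j, X'' j ⟶ S''}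
  {p : S' ⟶ S} {α : ι' → ι} {p' : ∀ j, X' j ⟶ X (α j)} (w : ∀ j, p' j ≫ f (α j) = f' j ≫ p)
  {q : S'' ⟶ S'} {β : ι'' → ι'} {q' : ∀ k, X'' k ⟶ X' (β k)} (w' : ∀ k, q' k ≫ f' (β k) = f'' k ≫ q)
  {r : S'' ⟶ S} {γ : ι'' → ι} {r' : ∀ k, X'' k ⟶ X (γ k)} (w'' : ∀ k, r' k ≫ f (γ k) = f'' k ≫ r)
  (hr : q ≫ p = r)

include w w' w'' hr in
theorem compatC {T : Scheme.{u}} {k : ι''} (x : T ⟶ X'' k) :
    ((x ≫ q' k) ≫ p' (β k)) ≫ f (α (β k)) = (x ≫ r' k) ≫ f (γ k) := by
  rw [Category.assoc, w, Category.assoc, reassoc_of% (w' k), Category.assoc, w'', hr]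

/-- the comparison on points -/
noncomputable def compPt (D : SchDDFam f) (k : ι'') :
    PtHom ((pullDDFamObj w' (pullDDFamObj w D)).obj k) ((pullDDFamObj w'' D).obj k) where
  app T x v := (liftsPullbackEquiv (D.obj (γ k)) (r' k) x).symm
    (D.φ ((x ≫ q' k) ≫ p' (β k)) (x ≫ r' k) (compatC w w' w'' hr x)
      (liftsPullbackEquiv (D.obj (α (β k))) (p' (β k)) (x ≫ q' k)
        (liftsPullbackEquiv ((pullDDFamObj w D).obj (β k)) (q' k) x v)))
  nat T T' g x y hy v v' hv' := by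
    subst hy
    apply pullback.hom_ext
    · refine Eq.trans ?_ (Category.assoc _ _ _).symm
      refine (lpe_symm_fst _ _ _ _).trans (Eq.trans ?_ (congrArg (g ≫ ·) (lpe_symm_fst _ _ _ _)).symm)
      refine D.φ_natural g ((x ≫ q' k) ≫ p' (β k)) (x ≫ r' k) (compatC w w' w'' hr x)
        (((g ≫ x) ≫ q' k) ≫ p' (β k)) ((g ≫ x) ≫ r' k)
        (by simp only [Category.assoc]) (Category.assoc _ _ _).symm _ _ _ ?_
      rw [lpe_val, lpe_val, lpe_val, lpe_val, hv', Category.assoc, Category.assoc, Category.assoc]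
    · refine Eq.trans ?_ (Category.assoc _ _ _).symm
      have h1 := ((liftsPullbackEquiv (D.obj (γ k)) (r' k) (g ≫ x)).symm
        (D.φ (((g ≫ x) ≫ q' k) ≫ p' (β k)) ((g ≫ x) ≫ r' k) (compatC w w' w'' hr (g ≫ x))
          (liftsPullbackEquiv (D.obj (α (β k))) (p' (β k)) ((g ≫ x) ≫ q' k)
            (liftsPullbackEquiv ((pullDDFamObj w D).obj (β k)) (q' k) (g ≫ x) v')))).2
      have h2 := ((liftsPullbackEquiv (D.obj (γ k)) (r' k) x).symm
        (D.φ ((x ≫ q' k) ≫ p' (β k)) (x ≫ r' k) (compatC w w' w'' hr x)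
          (liftsPullbackEquiv (D.obj (α (β k))) (p' (β k)) (x ≫ q' k)
            (liftsPullbackEquiv ((pullDDFamObj w D).obj (β k)) (q' k) x v)))).2
      exact h1.trans (congrArg (g ≫ ·) h2).symm

/-- the inverse comparison on points -/
noncomputable def compPt' (D : SchDDFam f) (k : ι'') :
    PtHom ((pullDDFamObj w'' D).obj k) ((pullDDFamObj w' (pullDDFamObj w D)).obj k) where
  app T x v := (liftsPullbackEquiv ((pullDDFamObj w D).obj (β k)) (q' k) x).symm
    ((liftsPullbackEquiv (D.obj (α (β k))) (p' (β k)) (x ≫ q' k)).symm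
      (D.φ (x ≫ r' k) ((x ≫ q' k) ≫ p' (β k)) (compatC w w' w'' hr x).symm
        (liftsPullbackEquiv (D.obj (γ k)) (r' k) x v)))
  nat T T' g x y hy v v' hv' := by
    subst hy
    apply pullback.hom_ext
    · refine Eq.trans ?_ (Category.assoc _ _ _).symm
      refine (lpe_symm_fst _ _ _ _).trans (Eq.trans ?_ (congrArg (g ≫ ·) (lpe_symm_fst _ _ _ _)).symm)
      apply pullback.hom_ext
      · refine Eq.trans ?_ (Category.assoc _ _ _).symm
        refine (lpe_symm_fst _ _ _ _).trans (Eq.trans ?_ (congrArg (g ≫ ·) (lpe_symm_fst _ _ _ _)).symm)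
        refine D.φ_natural g (x ≫ r' k) ((x ≫ q' k) ≫ p' (β k)) (compatC w w' w'' hr x).symm
          ((g ≫ x) ≫ r' k) (((g ≫ x) ≫ q' k) ≫ p' (β k)) (Category.assoc _ _ _).symm
          (by simp only [Category.assoc]) _ _ _ ?_
        rw [lpe_val, lpe_val, hv', Category.assoc]
      · refine Eq.trans ?_ (Category.assoc _ _ _).symm
        have h1 := ((liftsPullbackEquiv (D.obj (α (β k))) (p' (β k)) ((g ≫ x) ≫ q' k)).symm
          (D.φ ((g ≫ x) ≫ r' k) (((g ≫ x) ≫ q' k) ≫ p' (β k)) (compatC w w' w'' hr (g ≫ x)).symm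
            (liftsPullbackEquiv (D.obj (γ k)) (r' k) (g ≫ x) v'))).2
        have h2 := ((liftsPullbackEquiv (D.obj (α (β k))) (p' (β k)) (x ≫ q' k)).symm
          (D.φ (x ≫ r' k) ((x ≫ q' k) ≫ p' (β k)) (compatC w w' w'' hr x).symm
            (liftsPullbackEquiv (D.obj (γ k)) (r' k) x v))).2
        exact h1.trans ((Category.assoc _ _ _).trans (congrArg (g ≫ ·) h2).symm)
    · refine Eq.trans ?_ (Category.assoc _ _ _).symm
      have h1 := ((liftsPullbackEquiv ((pullDDFamObj w D).obj (β k)) (q' k) (g ≫ x)).symm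
        ((liftsPullbackEquiv (D.obj (α (β k))) (p' (β k)) ((g ≫ x) ≫ q' k)).symm
          (D.φ ((g ≫ x) ≫ r' k) (((g ≫ x) ≫ q' k) ≫ p' (β k)) (compatC w w' w'' hr (g ≫ x)).symm
            (liftsPullbackEquiv (D.obj (γ k)) (r' k) (g ≫ x) v')))).2
      have h2 := ((liftsPullbackEquiv ((pullDDFamObj w D).obj (β k)) (q' k) x).symm
        ((liftsPullbackEquiv (D.obj (α (β k))) (p' (β k)) (x ≫ q' k)).symm
          (D.φ (x ≫ r' k) ((x ≫ q' k) ≫ p' (β k)) (compatC w w' w'' hr x).symm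
            (liftsPullbackEquiv (D.obj (γ k)) (r' k) x v)))).2
      exact h1.trans (congrArg (g ≫ ·) h2).symm

theorem compPt_app (D : SchDDFam f) (k : ι'') {T : Scheme.{u}} (x : T ⟶ X'' k)
    (v : Lifts ((pullDDFamObj w' (pullDDFamObj w D)).obj k) x) :
    (compPt w w' w'' hr D k).app x v = (liftsPullbackEquiv (D.obj (γ k)) (r' k) x).symm
    (D.φ ((x ≫ q' k) ≫ p' (β k)) (x ≫ r' k) (compatC w w' w'' hr x)
      (liftsPullbackEquiv (D.obj (α (β k))) (p' (β k)) (x ≫ q' k)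
        (liftsPullbackEquiv ((pullDDFamObj w D).obj (β k)) (q' k) x v))) := rfl

theorem compPt'_app (D : SchDDFam f) (k : ι'') {T : Scheme.{u}} (x : T ⟶ X'' k)
    (v : Lifts ((pullDDFamObj w'' D).obj k) x) :
    (compPt' w w' w'' hr D k).app x v = (liftsPullbackEquiv ((pullDDFamObj w D).obj (β k)) (q' k) x).symm
    ((liftsPullbackEquiv (D.obj (α (β k))) (p' (β k)) (x ≫ q' k)).symm
      (D.φ (x ≫ r' k) ((x ≫ q' k) ≫ p' (β k)) (compatC w w' w'' hr x).symm
        (liftsPullbackEquiv (D.obj (γ k)) (r' k) x v))) := rfl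

/-- composition of pullbacks of a descent datum -/
noncomputable def compIsoApp (D : SchDDFam f) :
    pullDDFamObj w' (pullDDFamObj w D) ≅ pullDDFamObj w'' D :=
  isoMk (compPt w w' w'' hr D) (compPt' w w' w'' hr D)
    (by
      intro j T x v
      rw [compPt_app, compPt'_app, Equiv.apply_symm_apply, D.φ_comp, D.φ_self, Equiv.symm_apply_apply]
      erw [Equiv.symm_apply_apply])
    (by
      intro j T x v
      rw [compPt_app, compPt'_app, Equiv.apply_symm_apply]
      erw [Equiv.apply_symm_apply]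
      rw [D.φ_comp, D.φ_self, Equiv.symm_apply_apply])
    (by
      intro T i j x₀ x₁ h v
      rw [compPt_app, compPt_app]
      simp only [pullDDFamObj, Equiv.trans_apply, Equiv.apply_symm_apply, D.φ_comp])

/-- Composition of pullback functors. -/
noncomputable def compIso : pullDDFam w ⋙ pullDDFam w' ≅ pullDDFam w'' :=
  NatIso.ofComponents (fun D => compIsoApp w w' w'' hr D) (by
    intro D D' a
    apply SchDDFam.hom_ext
    funext k
    apply lifts_hom_ext
    intro T x v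
    change v.1 ≫ (((pullDDFam w').map ((pullDDFam w).map a)).hom k).left ≫
        ((compPt w w' w'' hr D' k).hom).left =
      v.1 ≫ ((compPt w w' w'' hr D k).hom).left ≫ (((pullDDFam w'').map a).hom k).left
    have e1 := (compPt w w' w'' hr D k).comp_hom x v
    have e2 := (compPt w w' w'' hr D' k).comp_hom x (((pullDDFam w').map ((pullDDFam w).map a)).push v)
    rw [← Category.assoc, ← Category.assoc, e1]
    refine e2.trans ?_
    rw [compPt_app, compPt_app]
    apply pullback.hom_ext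
    · erw [lpe_symm_fst]
      have key := a.comm ((x ≫ q' k) ≫ p' (β k)) (x ≫ r' k) (compatC w w' w'' hr x)
        (liftsPullbackEquiv (D.obj (α (β k))) (p' (β k)) (x ≫ q' k)
          (liftsPullbackEquiv ((pullDDFamObj w D).obj (β k)) (q' k) x v))
        (liftsPullbackEquiv (D'.obj (α (β k))) (p' (β k)) (x ≫ q' k)
          (liftsPullbackEquiv ((pullDDFamObj w D').obj (β k)) (q' k) x
            (((pullDDFam w').map ((pullDDFam w).map a)).push v))) (by
          simp [liftsPullbackEquiv, SchDDFam.Hom.push, pullDDFam])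
      rw [key]
      simp [liftsPullbackEquiv, pullDDFam]
    · have h1 := ((liftsPullbackEquiv (D'.obj (γ k)) (r' k) x).symm
        (D'.φ ((x ≫ q' k) ≫ p' (β k)) (x ≫ r' k) (compatC w w' w'' hr x)
          (liftsPullbackEquiv (D'.obj (α (β k))) (p' (β k)) (x ≫ q' k)
            (liftsPullbackEquiv ((pullDDFamObj w D').obj (β k)) (q' k) x
              (((pullDDFam w').map ((pullDDFam w).map a)).push v))))).2
      refine h1.trans ?_
      simp [liftsPullbackEquiv, pullDDFam])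

end comp

end K390.PullIso
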